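import Mathlib.RingTheory.Valuation.ValuationSubring
import Mathlib.RingTheory.DiscreteValuationRing.Basic
import Mathlib.RingTheory.LocalRing.ResidueField.Basic
import Mathlib.FieldTheory.Minpoly.Field
import Mathlib.FieldTheory.Minpoly.Finite
import Mathlib.LinearAlgebra.Dimension.Finite
import Mathlib.LinearAlgebra.FreeModule.Finite.Basic

/-!
Valuation subrings of a finite extension over a discrete valuation ring: they are discrete with finite residue
extension. No separability is assumed.
-/

set_option autoImplicit false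
set_option linter.style.haveILetI false
set_option linter.unusedSectionVars false
universe u

open IsLocalRing

namespace Groth.L05.SepResidueSol

/-- A separated local domain with principal maximal ideal is a discrete valuation ring. -/
theorem dvr_of_principal {R : Type u} [CommRing R] [IsDomain R] [IsLocalRing R] (p : R) (hp : p ≠ 0)
    (hmax : maximalIdeal R = Ideal.span {p}) (hsep : ∀ x : R, x ≠ 0 → ∃ n : ℕ, ¬ p ^ n ∣ x) :
    IsDiscreteValuationRing R := by
  classical
  have hpu : ¬ IsUnit p := fun h => (maximalIdeal.isMaximal R).ne_top (hmax.trans (Ideal.span_singleton_eq_top.mpr h))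
  have hdiv : ∀ y, ¬ IsUnit y → p ∣ y := fun y hy => Ideal.mem_span_singleton.mp (hmax ▸ (mem_maximalIdeal y).mpr hy)
  refine IsDiscreteValuationRing.ofHasUnitMulPowIrreducibleFactorization
    ⟨p, irreducible_iff.mpr ⟨hpu, fun a b hab => ?_⟩, fun {x} hx => ?_⟩
  · by_contra h
    push Not at h
    obtain ⟨a', rfl⟩ := hdiv a h.1
    obtain ⟨b', rfl⟩ := hdiv b h.2
    exact hpu (IsUnit.of_mul_eq_one (a' * b') (mul_left_cancel₀ hp (by linear_combination -hab)))
  · obtain ⟨m, hm⟩ : ∃ m, Nat.find (hsep x hx) = m + 1 :=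
      Nat.exists_eq_succ_of_ne_zero fun h => Nat.find_spec (hsep x hx) (by rw [h, pow_zero]; exact one_dvd x)
    obtain ⟨y, hy⟩ : p ^ m ∣ x := not_not.mp (Nat.find_min (hsep x hx) (by omega))
    have hu : IsUnit y := by
      by_contra h
      refine Nat.find_spec (hsep x hx) ?_
      rw [hm, hy, pow_succ]
      exact mul_dvd_mul_left _ (hdiv y h)
    exact ⟨m, hu.unit, hy.symm⟩

open Polynomial in
/-- In a finite extension some power of a valuation comes from the base field. -/
theorem exists_pow_eq (K : Type u) {F : Type u} [Field K] [Field F] [Algebra K F] [FiniteDimensional K F]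
    (W : ValuationSubring F) {x : F} (hx : x ≠ 0) :
    ∃ n : ℕ, 0 < n ∧ n ≤ Module.finrank K F ∧ ∃ k : K, W.valuation x ^ n = W.valuation (algebraMap K F k) := by
  classical
  let v := W.valuation
  have hint : IsIntegral K x := Algebra.IsIntegral.isIntegral x
  let p := minpoly K x
  let t : ℕ → F := fun i => algebraMap K F (p.coeff i) * x ^ i
  have hne : ∀ i ∈ p.support, v (t i) ≠ 0 := fun i hi => (map_ne_zero v).mpr
    (mul_ne_zero ((_root_.map_ne_zero (algebraMap K F)).mpr (mem_support_iff.mp hi)) (pow_ne_zero _ hx))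
  have hsum : ∑ i ∈ p.support, t i = 0 := by
    rw [← minpoly.aeval K x, aeval_def, eval₂_eq_sum, Polynomial.sum_def]
  obtain ⟨j, hj, hmax⟩ := Finset.exists_max_image p.support (fun i => v (t i))
    (support_nonempty.mpr (minpoly.ne_zero hint))
  obtain ⟨i, hi, hij, heq⟩ : ∃ i ∈ p.support, i ≠ j ∧ v (t i) = v (t j) := by
    by_contra h
    push Not at h
    refine hne j hj ?_
    rw [← v.map_sum_eq_of_lt hj (fun i hi => ?_), hsum, map_zero]
    rw [Finset.mem_sdiff, Finset.mem_singleton] at hi
    exact lt_of_le_of_ne (hmax i hi.1) (h i hi.1 hi.2)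
  have key : ∀ a b : ℕ, a ∈ p.support → b ∈ p.support → a < b → v (t a) = v (t b) →
      ∃ n : ℕ, 0 < n ∧ n ≤ Module.finrank K F ∧ ∃ k : K, v x ^ n = v (algebraMap K F k) := by
    intro a b ha hb hab h
    refine ⟨b - a, by omega, le_trans (Nat.sub_le _ _) ((le_natDegree_of_mem_supp b hb).trans (minpoly.natDegree_le x)),
      p.coeff a / p.coeff b, ?_⟩
    have hb0 : v (algebraMap K F (p.coeff b)) ≠ 0 :=
      (map_ne_zero v).mpr ((_root_.map_ne_zero (algebraMap K F)).mpr (mem_support_iff.mp hb))
    have ha0 : v x ^ a ≠ 0 := pow_ne_zero _ ((map_ne_zero v).mpr hx)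
    rw [map_div₀, map_div₀, eq_div_iff hb0]
    refine mul_right_cancel₀ ha0 ?_
    simp only [t, map_mul, map_pow] at h
    rw [h, mul_right_comm, ← pow_add, Nat.sub_add_cancel hab.le, mul_comm]
  rcases lt_or_gt_of_ne hij with h | h
  · exact key i j hi hj h heq
  · exact key j i hj hi h heq.symm

section Dominated

variable (A K : Type u) {F : Type u} [CommRing A] [IsDomain A] [IsDiscreteValuationRing A] [Field K] [Algebra A K]
  [IsFractionRing A K] [Field F] [Algebra K F] [FiniteDimensional K F] [Algebra A F] [IsScalarTower A K F]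
  (W : ValuationSubring F) [Algebra A W] [IsScalarTower A W F] [IsLocalHom (algebraMap A W)]

theorem valuation_le_one (a : A) : W.valuation (algebraMap A F a) ≤ 1 := by
  rw [IsScalarTower.algebraMap_apply A W F]
  exact W.valuation_le_one _

theorem valuation_eq_one_iff (a : A) : W.valuation (algebraMap A F a) = 1 ↔ IsUnit a := by
  rw [IsScalarTower.algebraMap_apply A W F]
  exact (W.valuation_eq_one_iff (algebraMap A W a)).symm.trans (isUnit_map_iff (algebraMap A W) a)

theorem exists_eq_algebraMap {k : K} (hk : W.valuation (algebraMap K F k) ≤ 1) : ∃ a : A, algebraMap A K a = k := by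
  obtain ⟨a, ha⟩ | ⟨a, ha⟩ := ValuationRing.isInteger_or_isInteger A k
  · exact ⟨a, ha⟩
  · by_cases hk0 : k = 0
    · exact ⟨0, by rw [map_zero, hk0]⟩
    have hva : W.valuation (algebraMap A F a) = 1 := by
      refine le_antisymm (valuation_le_one A W a) ?_
      rw [IsScalarTower.algebraMap_apply A K F, show algebraMap A K a = k⁻¹ from ha, map_inv₀, map_inv₀]
      exact (one_le_inv₀ (zero_lt_iff.mpr ((map_ne_zero _).mpr ((_root_.map_ne_zero _).mpr hk0)))).mpr hk
    obtain ⟨u, rfl⟩ := (valuation_eq_one_iff A W a).mp hva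
    refine ⟨(u⁻¹ : Aˣ), ?_⟩
    have h : algebraMap A K u = k⁻¹ := ha
    rw [map_units_inv, h, inv_inv]

include K in
/-- A fixed power of the valuation is a power of the valuation of a uniformizer. -/
theorem exists_pow_eq_pow {π : A} (hπ : Irreducible π) {x : W} (hx : x ≠ 0) :
    ∃ j : ℕ, W.valuation x ^ (Module.finrank K F).factorial = W.valuation (algebraMap A F π) ^ j := by
  obtain ⟨n, hn, hnd, k, hk⟩ := exists_pow_eq K W (x := (x : F)) fun h => hx (Subtype.ext h)
  obtain ⟨a, rfl⟩ := exists_eq_algebraMap A K W (k := k) (hk ▸ pow_le_one' (W.valuation_le_one x) n)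
  have ha : a ≠ 0 := fun h => by
    rw [h, map_zero, map_zero, map_zero, pow_eq_zero_iff hn.ne', map_eq_zero] at hk
    exact hx (Subtype.ext hk)
  obtain ⟨i, u, rfl⟩ := IsDiscreteValuationRing.eq_unit_mul_pow_irreducible ha hπ
  obtain ⟨c, hc⟩ := Nat.dvd_factorial hn hnd
  refine ⟨i * c, ?_⟩
  rw [hc, pow_mul, hk, ← IsScalarTower.algebraMap_apply A K F, map_mul, map_mul, map_pow, map_pow,
    (valuation_eq_one_iff A W _).mpr u.isUnit, one_mul, ← pow_mul]

include K in
/-- A valuation subring of a finite extension dominating a discrete valuation ring is discrete. -/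
theorem isDiscreteValuationRing_of_finite : IsDiscreteValuationRing W ∧
    ∀ {π : A}, Irreducible π → ∀ x : W, x ≠ 0 → ∃ N : ℕ, x ∣ algebraMap A W π ^ N := by
  classical
  obtain ⟨π₀, hπ₀⟩ := IsDiscreteValuationRing.exists_irreducible A
  let D := (Module.finrank K F).factorial
  have hD : D ≠ 0 := Nat.factorial_ne_zero _
  have hlt : ∀ {π : A}, Irreducible π → W.valuation (algebraMap A F π) < 1 := fun hπ =>
    lt_of_le_of_ne (valuation_le_one A W _) fun h => hπ.not_isUnit ((valuation_eq_one_iff A W _).mp h)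
  have hdvd : ∀ x y : W, x ≠ 0 → W.valuation y ≤ W.valuation x → x ∣ y := fun x y hx h => by
    have hx' : (x : F) ≠ 0 := fun e => hx (Subtype.ext e)
    refine ⟨⟨y / x, (W.valuation_le_one_iff _).mp ?_⟩, Subtype.ext (mul_div_cancel₀ _ hx').symm⟩
    rw [map_div₀]
    exact (div_le_one₀ (zero_lt_iff.mpr ((map_ne_zero _).mpr hx'))).mpr h
  have hπ0 : ∀ {π : A}, Irreducible π → algebraMap A F π ≠ 0 := fun hπ h => by
    rw [IsScalarTower.algebraMap_apply A K F, _root_.map_eq_zero, IsFractionRing.to_map_eq_zero_iff] at h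
    exact hπ.ne_zero h
  have hpow : ∀ {π : A}, Irreducible π → ∀ {i j : ℕ},
      W.valuation (algebraMap A F π) ^ i ≤ W.valuation (algebraMap A F π) ^ j ↔ j ≤ i := fun hπ =>
    pow_le_pow_iff_right_of_lt_one₀ (zero_lt_iff.mpr ((map_ne_zero _).mpr (hπ0 hπ))) (hlt hπ)
  have hcast : ∀ (π : A), W.valuation (algebraMap A W π : F) = W.valuation (algebraMap A F π) := fun π =>
    congrArg W.valuation (IsScalarTower.algebraMap_apply A W F π).symm
  refine ⟨?_, fun {π} hπ x hx => ?_⟩
  swap
  · obtain ⟨j, hj⟩ := exists_pow_eq_pow A K W hπ hx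
    refine ⟨j, hdvd _ _ hx ?_⟩
    rw [SubmonoidClass.coe_pow, map_pow, hcast, ← hj]
    exact pow_le_of_le_one zero_le (W.valuation_le_one x) hD
  let P : ℕ → Prop := fun j => ∃ x : W, x ≠ 0 ∧ ¬ IsUnit x ∧
    W.valuation x ^ D = W.valuation (algebraMap A F π₀) ^ j
  have hP : ∃ j, P j := ⟨D, algebraMap A W π₀, fun h => hπ0 hπ₀ (by
      rw [IsScalarTower.algebraMap_apply A W F, h, map_zero]),
    fun h => hπ₀.not_isUnit ((isUnit_map_iff _ _).mp h), by rw [hcast]⟩
  obtain ⟨p, hp, hpu, hpm⟩ := Nat.find_spec hP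
  have hplt : W.valuation p < 1 := lt_of_le_of_ne (W.valuation_le_one p) fun h => hpu ((W.valuation_eq_one_iff p).mpr h)
  have hm₀ : Nat.find hP ≠ 0 := fun h => by
    rw [h, pow_zero] at hpm
    exact (pow_lt_one₀ zero_le hplt hD).ne hpm
  refine dvr_of_principal p hp (le_antisymm (fun y hy => ?_) ?_) fun x hx => ?_
  · rw [Ideal.mem_span_singleton]
    by_cases hy0 : y = 0
    · exact hy0 ▸ dvd_zero p
    obtain ⟨j, hj⟩ := exists_pow_eq_pow A K W hπ₀ hy0
    have hle : Nat.find hP ≤ j := Nat.find_min' hP ⟨y, hy0, hy, hj⟩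
    refine hdvd p y hp ((pow_le_pow_iff_left₀ zero_le zero_le hD).mp ?_)
    rw [hj, hpm]
    exact (hpow hπ₀).mpr hle
  · exact (Ideal.span_singleton_le_iff_mem _).mpr hpu
  · obtain ⟨j, hj⟩ := exists_pow_eq_pow A K W hπ₀ hx
    refine ⟨j + 1, ?_⟩
    rintro ⟨y, rfl⟩
    have h1 : W.valuation ((p ^ (j + 1) * y : W) : F) ≤ W.valuation (p : F) ^ (j + 1) := by
      rw [MulMemClass.coe_mul, SubmonoidClass.coe_pow, map_mul, map_pow]
      exact mul_le_of_le_one_right zero_le (W.valuation_le_one y)
    have h2 := pow_le_pow_left₀ zero_le h1 D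
    rw [hj, ← pow_mul, mul_comm (j + 1), pow_mul, hpm, ← pow_mul, hpow hπ₀] at h2
    nlinarith [Nat.pos_of_ne_zero hm₀]

include K in
/-- The residue extension is finite. -/
theorem finite_residueField : Module.Finite (ResidueField A) (ResidueField W) := by
  classical
  refine Module.rank_lt_aleph0_iff.mp (lt_of_le_of_lt (rank_le (n := Module.finrank K F) fun s hs => ?_) (Cardinal.natCast_lt_aleph0))
  choose x hx using fun i : s => residue_surjective (i : ResidueField W)
  have hli : LinearIndependent K (fun i => (x i : F)) := by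
    rw [Fintype.linearIndependent_iff]
    intro g hg
    by_contra h
    push Not at h
    obtain ⟨i₁, hi₁⟩ := h
    obtain ⟨i₀, -, hmax⟩ := Finset.exists_max_image Finset.univ (fun i => W.valuation (algebraMap K F (g i)))
      ⟨i₁, Finset.mem_univ _⟩
    have h0 : g i₀ ≠ 0 := fun h0 => hi₁ (by
      have := hmax i₁ (Finset.mem_univ _)
      rw [h0, map_zero, map_zero, le_zero_iff, map_eq_zero, _root_.map_eq_zero] at this
      exact this)
    have h0' : 0 < W.valuation (algebraMap K F (g i₀)) :=
      zero_lt_iff.mpr ((map_ne_zero _).mpr ((_root_.map_ne_zero _).mpr h0))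
    choose a ha using fun i => exists_eq_algebraMap A K W (k := g i / g i₀) (by
      rw [map_div₀, map_div₀]
      exact (div_le_one₀ h0').mpr (hmax i (Finset.mem_univ _)))
    have hsum : ∑ i, algebraMap A W (a i) * x i = 0 := by
      refine Subtype.ext ?_
      have e : ∀ i, ((algebraMap A W (a i) * x i : W) : F) = (g i₀)⁻¹ • (g i • (x i : F)) := fun i => by
        rw [MulMemClass.coe_mul, show ((algebraMap A W (a i) : W) : F) = algebraMap A F (a i) from
          (IsScalarTower.algebraMap_apply A W F (a i)).symm, IsScalarTower.algebraMap_apply A K F, ha, smul_smul,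
          Algebra.smul_def, mul_comm (g i₀)⁻¹, div_eq_mul_inv]
      show W.subtype (∑ i, algebraMap A W (a i) * x i) = 0
      rw [map_sum]
      show ∑ i, ((algebraMap A W (a i) * x i : W) : F) = 0
      rw [Finset.sum_congr rfl fun i _ => e i, ← Finset.smul_sum, hg, smul_zero]
    have h2 := congrArg (residue W) hsum
    rw [map_sum, map_zero] at h2
    have h3 : ∑ i, residue A (a i) • (i : ResidueField W) = 0 := by
      rw [← h2]
      refine Finset.sum_congr rfl fun i _ => ?_
      rw [map_mul, Algebra.smul_def, hx]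
      rfl
    have h4 := Fintype.linearIndependent_iff.mp hs _ h3 i₀
    have h5 : a i₀ = 1 := IsFractionRing.injective A K (by rw [ha, div_self h0, map_one])
    rw [h5, map_one] at h4
    exact one_ne_zero h4
  simpa using hli.fintype_card_le_finrank

end Dominated

end Groth.L05.SepResidueSol
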