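import Groth.Agent.L05.SepResidueSol.Valuation
import Groth.Agent.L05.UnramBaseChange.Main
import Groth.Agent.L03.GeomReduced2
import Mathlib.RingTheory.SimpleModule.Basic
import Mathlib.RingTheory.Artinian.Module

/-!
A weakly unramified extension with separable residue extension is solved by every finite extension.
-/

set_option autoImplicit false
set_option linter.style.haveILetI false
set_option maxSynthPendingDepth 3

universe u

open IsLocalRing TensorProduct

namespace Groth.L05.SepResidueSol

open EtRam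

/-- The base change of a geometrically reduced extension along a finite one is semisimple. -/
theorem isSemisimpleRing_tensor (k l κ : Type u) [Field k] [Field l] [Field κ] [Algebra k l] [Algebra k κ]
    [Module.Finite k l] [Algebra.IsGeometricallyReduced k κ] : IsSemisimpleRing (l ⊗[k] κ) := by
  let e := Algebra.TensorProduct.comm k l κ
  haveI : _root_.IsReduced (κ ⊗[k] l) := isReduced_of_injective e.symm e.symm.injective
  haveI : IsArtinianRing (κ ⊗[k] l) := IsArtinianRing.of_finite κ _
  haveI : IsSemisimpleRing (κ ⊗[k] l) := IsArtinianRing.isSemisimpleRing_of_isReduced _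
  exact RingHom.isSemisimpleRing_of_surjective e.symm.toRingHom e.symm.surjective

/-- A factor field of the base change of a geometrically reduced extension is geometrically reduced. -/
theorem geomReduced_of_surjective (k l κ E : Type u) [Field k] [Field l] [Field κ] [Field E] [Algebra k l]
    [Algebra k κ] [Module.Finite k l] [Algebra.IsGeometricallyReduced k κ] [Algebra l E]
    (g : l ⊗[k] κ →ₐ[l] E) (hg : Function.Surjective g) : Algebra.IsGeometricallyReduced l E := by
  haveI := isSemisimpleRing_tensor k l κ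
  rw [Algebra.isGeometricallyReduced_field_iff]
  let Ω := AlgebraicClosure l
  let R₀ := l ⊗[k] κ
  obtain ⟨e, he, hker⟩ := IsSemisimpleRing.ideal_eq_span_idempotent (RingHom.ker g)
  let G : Ω ⊗[l] R₀ →ₐ[l] Ω ⊗[l] E := Algebra.TensorProduct.map (AlgHom.id l Ω) g
  have hG : RingHom.ker G = Ideal.span {(1 : Ω) ⊗ₜ[l] e} := by
    rw [Algebra.TensorProduct.lTensor_ker g hg, hker, Ideal.map_span, Set.image_singleton]
    rfl
  haveI : _root_.IsReduced (Ω ⊗[k] κ) := Groth.L03.GeomReduced2.isReduced_of_isGeometricallyReduced Ω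
  haveI : _root_.IsReduced (Ω ⊗[l] R₀) :=
    isReduced_of_injective (Algebra.TensorProduct.cancelBaseChange k l Ω Ω κ)
      (Algebra.TensorProduct.cancelBaseChange k l Ω Ω κ).injective
  have he' : IsIdempotentElem ((1 : Ω) ⊗ₜ[l] e) := by
    show _ * _ = _
    rw [Algebra.TensorProduct.tmul_mul_tmul, one_mul, he.eq]
  refine ⟨fun y hy => ?_⟩
  obtain ⟨n, hn⟩ := hy
  obtain ⟨z, rfl⟩ : ∃ z, G z = y := TensorProduct.map_surjective Function.surjective_id hg y
  rw [← map_pow, ← RingHom.mem_ker, hG, Ideal.mem_span_singleton] at hn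
  obtain ⟨c, hc⟩ := hn
  have h1 : IsNilpotent (z * (1 - (1 : Ω) ⊗ₜ[l] e)) := by
    refine ⟨n + 1, ?_⟩
    rw [mul_pow, pow_succ z, hc, he'.one_sub.pow_succ_eq]
    linear_combination (-(z * c)) * he'.eq
  have h2 := h1.eq_zero
  rw [← RingHom.mem_ker, hG, Ideal.mem_span_singleton]
  exact ⟨z, by linear_combination h2⟩

/-- All local extensions of a weakly unramified extension with separable residue extension are of the same kind. -/
theorem isSolution (A B K L : Type u) [CommRing A] [IsDomain A] [IsDiscreteValuationRing A]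
    [CommRing B] [IsDomain B] [IsDiscreteValuationRing B] [Algebra A B] [IsLocalHom (algebraMap A B)]
    (hinj : Function.Injective (algebraMap A B))
    [Field K] [Field L] [Algebra A K] [IsFractionRing A K] [Algebra B L] [IsFractionRing B L]
    [Algebra K L] [Algebra A L] [IsScalarTower A K L] [IsScalarTower A B L]
    (hw : EtRam.IsWeaklyUnramified A B)
    [Algebra.IsGeometricallyReduced (IsLocalRing.ResidueField A) (IsLocalRing.ResidueField B)]
    (K₁ : Type u) [Field K₁] [Algebra K K₁] [FiniteDimensional K K₁] : EtRam.IsSolution B K L K₁ := by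
  intro M _ _ _ _ _ _ hgen W hW
  let f := algebraMap K₁ M
  let V₁ := W.comap f
  haveI : FiniteDimensional L M := by
    let q : L ⊗[K] K₁ →ₐ[L] M :=
      Algebra.TensorProduct.lift (Algebra.ofId L M) (IsScalarTower.toAlgHom K K₁ M) fun _ _ => Commute.all _ _
    refine Module.Finite.of_surjective q.toLinearMap fun x => ?_
    have hle : Algebra.adjoin L (Set.range f) ≤ q.range := Algebra.adjoin_le fun _ ⟨y, hy⟩ =>
      ⟨1 ⊗ₜ y, by simp [q, ← hy, f]⟩
    exact hle (hgen ▸ Algebra.mem_top)
  letI : Algebra B M := ((algebraMap L M).comp (algebraMap B L)).toAlgebra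
  haveI : IsScalarTower B L M := IsScalarTower.of_algebraMap_eq fun _ => rfl
  letI : Algebra B W := (RingHom.codRestrict (algebraMap B M) W hW.1).toAlgebra
  haveI : IsScalarTower B W M := IsScalarTower.of_algebraMap_eq fun _ => rfl
  haveI : IsLocalHom (algebraMap B W) := Groth.L05.TameTower.isLocalHom_codRestrict _ W hW
  letI : Algebra A K₁ := ((algebraMap K K₁).comp (algebraMap A K)).toAlgebra
  haveI : IsScalarTower A K K₁ := IsScalarTower.of_algebraMap_eq fun _ => rfl
  have hA : ∀ a : A, f (algebraMap A K₁ a) = algebraMap B M (algebraMap A B a) := fun a => by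
    show algebraMap K₁ M (algebraMap K K₁ (algebraMap A K a)) = algebraMap L M (algebraMap B L (algebraMap A B a))
    rw [← IsScalarTower.algebraMap_apply K K₁ M, ← IsScalarTower.algebraMap_apply A B L,
      IsScalarTower.algebraMap_apply A K L, ← IsScalarTower.algebraMap_apply K L M]
  letI : Algebra A V₁ := (RingHom.codRestrict (algebraMap A K₁) V₁ fun a =>
    show f _ ∈ W by rw [hA]; exact hW.1 _).toAlgebra
  haveI : IsScalarTower A V₁ K₁ := IsScalarTower.of_algebraMap_eq fun _ => rfl
  letI : Algebra A W := ((algebraMap B W).comp (algebraMap A B)).toAlgebra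
  haveI : IsScalarTower A B W := IsScalarTower.of_algebraMap_eq fun _ => rfl
  let ι' : V₁ →ₐ[A] W := { inclOfComap W f with commutes' := fun a => Subtype.ext (hA a) }
  haveI : IsLocalHom (algebraMap A V₁) := ⟨fun a ha => by
    have h1 := ha.map ι'
    rw [ι'.commutes, IsScalarTower.algebraMap_apply A B W] at h1
    exact isUnit_of_map_unit (algebraMap A B) a (isUnit_of_map_unit (algebraMap B W) _ h1)⟩
  obtain ⟨hdV, -⟩ := isDiscreteValuationRing_of_finite A K V₁
  obtain ⟨hdW, hsepW⟩ := isDiscreteValuationRing_of_finite B L W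
  haveI := hdV
  haveI : Module.Finite (ResidueField A) (ResidueField V₁) := finite_residueField A K V₁
  obtain ⟨π, hπ⟩ := IsDiscreteValuationRing.exists_irreducible A
  obtain ⟨ϖ, hϖ⟩ := IsDiscreteValuationRing.exists_irreducible V₁
  have hπV : algebraMap A V₁ π ≠ 0 := fun h => hπ.ne_zero ((algebraMap K K₁).injective.comp
    (IsFractionRing.injective A K) ((congrArg Subtype.val h).trans (by simp)))
  obtain ⟨e, u, hπe⟩ := IsDiscreteValuationRing.eq_unit_mul_pow_irreducible hπV hϖ
  obtain ⟨e', rfl⟩ := Nat.exists_eq_succ_of_ne_zero (n := e) fun h => hπ.not_isUnit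
    ((isUnit_map_iff (algebraMap A V₁) π).mp (by rw [hπe, h, pow_zero, mul_one]; exact u.isUnit))
  let R := B ⊗[A] V₁
  let P : R := 1 ⊗ₜ ϖ
  let ψ : R →ₐ[B] W := Algebra.TensorProduct.lift (Algebra.ofId B W) ι' fun _ _ => Commute.all _ _
  have hψV : ∀ v : V₁, ψ (1 ⊗ₜ v) = ι' v := fun v => by
    rw [show ψ = Algebra.TensorProduct.lift (Algebra.ofId B W) ι' _ from rfl, Algebra.TensorProduct.lift_tmul, map_one, one_mul]
  let Q := (maximalIdeal W).comap ψ.toRingHom
  have hι'ϖ : ¬ IsUnit (ι' ϖ) := fun h => hϖ.not_isUnit (isUnit_of_map_unit (inclOfComap W f) ϖ h)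
  have hPQ : P ∈ Q := by
    show ψ (1 ⊗ₜ ϖ) ∈ maximalIdeal W
    rw [hψV, mem_maximalIdeal]
    exact hι'ϖ
  let Rb := R ⧸ Ideal.span {P}
  let mkP := Ideal.Quotient.mk (Ideal.span {P})
  have hϖR : ∀ v ∈ maximalIdeal V₁, (1 : B) ⊗ₜ[A] v ∈ Ideal.span {P} := fun v hv => by
    rw [hϖ.maximalIdeal_eq, Ideal.mem_span_singleton] at hv
    obtain ⟨w, rfl⟩ := hv
    exact Ideal.mem_span_singleton.mpr ⟨1 ⊗ₜ w, by simp [P]⟩
  let g₁ : ResidueField V₁ →+* Rb :=
    Ideal.Quotient.lift (maximalIdeal V₁) (mkP.comp (Algebra.TensorProduct.includeRight : V₁ →ₐ[A] R).toRingHom)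
      fun v hv => Ideal.Quotient.eq_zero_iff_mem.mpr (hϖR v hv)
  let g₂ : ResidueField B →+* Rb :=
    Ideal.Quotient.lift (maximalIdeal B) (mkP.comp Algebra.TensorProduct.includeLeftRingHom) fun b hb => by
      rw [← hw, hπ.maximalIdeal_eq, Ideal.map_span, Set.image_singleton, Ideal.mem_span_singleton] at hb
      obtain ⟨c, rfl⟩ := hb
      refine Ideal.Quotient.eq_zero_iff_mem.mpr ?_
      show (algebraMap A B π * c) ⊗ₜ[A] (1 : V₁) ∈ _
      rw [show (algebraMap A B π * c) ⊗ₜ[A] (1 : V₁) = (c ⊗ₜ 1) * ((1 : B) ⊗ₜ algebraMap A V₁ π) by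
        rw [Algebra.TensorProduct.tmul_mul_tmul, one_mul, mul_one, ← Algebra.smul_def, smul_tmul, Algebra.algebraMap_eq_smul_one]]
      refine Ideal.mul_mem_left _ _ (hϖR _ ?_)
      rw [mem_maximalIdeal, mem_nonunits_iff, isUnit_map_iff]
      exact hπ.not_isUnit
  letI : Algebra (ResidueField A) Rb := (g₁.comp (algebraMap (ResidueField A) (ResidueField V₁))).toAlgebra
  let G₁ : ResidueField V₁ →ₐ[ResidueField A] Rb := { g₁ with commutes' := fun _ => rfl }
  let G₂ : ResidueField B →ₐ[ResidueField A] Rb := { g₂ with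
    commutes' := fun c => by
      obtain ⟨a, rfl⟩ := residue_surjective c
      show mkP (algebraMap A B a ⊗ₜ 1) = mkP (1 ⊗ₜ algebraMap A V₁ a)
      rw [Algebra.algebraMap_eq_smul_one, Algebra.algebraMap_eq_smul_one, smul_tmul] }
  haveI hss := isSemisimpleRing_tensor (ResidueField A) (ResidueField V₁) (ResidueField B)
  haveI : IsSemisimpleRing Rb := by
    refine RingHom.isSemisimpleRing_of_surjective
      (Algebra.TensorProduct.lift G₁ G₂ fun _ _ => Commute.all _ _).toRingHom fun z => ?_
    obtain ⟨r, rfl⟩ := Ideal.Quotient.mk_surjective z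
    induction r using TensorProduct.induction_on with
    | zero => exact ⟨0, (map_zero _).trans (map_zero mkP).symm⟩
    | add a b ha hb =>
      obtain ⟨x, hx⟩ := ha
      obtain ⟨y, hy⟩ := hb
      exact ⟨x + y, by rw [map_add, hx, hy, map_add]⟩
    | tmul b v =>
      refine ⟨residue V₁ v ⊗ₜ residue B b, ?_⟩
      show G₁ (residue V₁ v) * G₂ (residue B b) = mkP (b ⊗ₜ v)
      show mkP (1 ⊗ₜ v) * mkP (b ⊗ₜ 1) = _
      rw [← map_mul, Algebra.TensorProduct.tmul_mul_tmul, one_mul, mul_one]
  obtain ⟨q, hq, hQq⟩ := IsSemisimpleRing.ideal_eq_span_idempotent (Q.map mkP)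
  obtain ⟨q, rfl⟩ := Ideal.Quotient.mk_surjective q
  have hqQ : q ∈ Q := by
    have h : q ∈ (Q.map mkP).comap mkP := by
      rw [Ideal.mem_comap, hQq]; exact Ideal.mem_span_singleton_self _
    rw [Ideal.comap_map_of_surjective' _ Ideal.Quotient.mk_surjective, Ideal.mk_ker] at h
    exact (sup_le le_rfl ((Ideal.span_singleton_le_iff_mem Q).mpr hPQ) :) h
  let RQ := Localization.AtPrime Q
  let p := algebraMap R RQ P
  have hmaxQ : maximalIdeal RQ = Ideal.span {p} := by
    refine le_antisymm ?_ ((Ideal.span_singleton_le_iff_mem _).mpr ?_)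
    · rw [← Localization.AtPrime.map_eq_maximalIdeal, Ideal.map_le_iff_le_comap]
      intro x hx
      have h1 : mkP x ∈ Ideal.span {mkP q} := hQq ▸ Ideal.mem_map_of_mem _ hx
      obtain ⟨c, hc⟩ := Ideal.mem_span_singleton.mp h1
      obtain ⟨c, rfl⟩ := Ideal.Quotient.mk_surjective c
      rw [← map_mul, Ideal.Quotient.eq, Ideal.mem_span_singleton] at hc
      obtain ⟨d, hd⟩ := hc
      have h2 : mkP (q * (1 - q)) = 0 := by rw [map_mul, map_sub, map_one, mul_sub, mul_one, hq.eq, sub_self]
      obtain ⟨d', hd'⟩ := Ideal.mem_span_singleton.mp (Ideal.Quotient.eq_zero_iff_mem.mp h2)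
      have hu : IsUnit (algebraMap R RQ (1 - q)) := IsLocalization.map_units (M := Q.primeCompl) RQ
        ⟨1 - q, fun h => (inferInstance : Q.IsPrime).ne_top ((Ideal.eq_top_iff_one _).mpr (by
          simpa using Q.add_mem h hqQ))⟩
      obtain ⟨w, hw'⟩ := hu
      have hqp : algebraMap R RQ q = p * (algebraMap R RQ d' * (w⁻¹ : RQˣ)) := by
        rw [← mul_assoc, ← map_mul, ← hd', map_mul, ← hw', mul_assoc, Units.mul_inv, mul_one]
      rw [Ideal.mem_comap, Ideal.mem_span_singleton, show x = q * c + P * d by rw [← hd]; ring, map_add, map_mul,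
        map_mul, hqp]
      exact dvd_add (dvd_mul_of_dvd_left (dvd_mul_right _ _) _) (dvd_mul_right _ _)
    · rw [← Localization.AtPrime.map_eq_maximalIdeal]
      exact Ideal.mem_map_of_mem _ hPQ
  let φ : RQ →+* W := IsLocalization.lift (M := Q.primeCompl) (g := ψ.toRingHom) fun s => by
    by_contra h
    exact s.2 ((mem_maximalIdeal _).mpr h)
  have hφ : ∀ r : R, φ (algebraMap R RQ r) = ψ r := IsLocalization.lift_eq _
  haveI hφloc : IsLocalHom φ := by
    refine ⟨fun t ht => ?_⟩
    obtain ⟨a, s, rfl⟩ := IsLocalization.exists_mk'_eq Q.primeCompl t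
    rw [IsLocalization.AtPrime.isUnit_mk'_iff]
    intro ha
    have h1 : φ (IsLocalization.mk' RQ a s) * φ (algebraMap R RQ s) = ψ a := by
      rw [← map_mul, IsLocalization.mk'_spec, hφ]
    exact (mem_maximalIdeal _).mp ha (h1 ▸ ht.mul ((IsLocalization.map_units RQ s).map φ) : IsUnit (ψ a))
  let T := RQ ⧸ RingHom.ker φ
  haveI : (RingHom.ker φ).IsPrime := RingHom.ker_isPrime φ
  haveI : IsLocalRing T := IsLocalRing.of_surjective' _ Ideal.Quotient.mk_surjective
  let φT : T →+* W := Ideal.Quotient.lift _ φ fun a ha => ha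
  let pT := Ideal.Quotient.mk (RingHom.ker φ) p
  have hmaxT : maximalIdeal T = Ideal.span {pT} := by
    rw [← IsLocalRing.map_maximalIdeal_of_surjective _ Ideal.Quotient.mk_surjective, hmaxQ, Ideal.map_span,
      Set.image_singleton]
  have hφp : φT pT = ι' ϖ := (hφ P).trans (hψV ϖ)
  have hι'0 : ι' ϖ ≠ 0 := fun h => hϖ.ne_zero (Subtype.ext (f.injective ((congrArg Subtype.val h).trans (by simp))))
  have hφTinj : Function.Injective φT := RingHom.kerLift_injective φ
  haveI : IsDiscreteValuationRing T := by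
    refine dvr_of_principal pT (fun h => hι'0 (by rw [← hφp, h, map_zero])) hmaxT fun x hx => ?_
    obtain ⟨π', hπ'⟩ := IsDiscreteValuationRing.exists_irreducible B
    obtain ⟨N, hN⟩ := hsepW hπ' (φT x) fun h => hx (hφTinj (by rw [h, map_zero]))
    refine ⟨(e' + 1) * N + 1, fun h => ?_⟩
    have hπB : algebraMap A B π ∣ π' ∧ π' ∣ algebraMap A B π := by
      have h1 : Ideal.span {algebraMap A B π} = Ideal.span {π'} := by
        rw [← Set.image_singleton, ← Ideal.map_span, ← hπ.maximalIdeal_eq, hw, hπ'.maximalIdeal_eq]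
      exact ⟨Ideal.span_singleton_le_span_singleton.mp h1.ge, Ideal.span_singleton_le_span_singleton.mp h1.le⟩
    have h2 : ι' ϖ ^ ((e' + 1) * N) * ι' ϖ ∣ ι' ϖ ^ ((e' + 1) * N) * ι' (u ^ N : V₁ˣ) := by
      have h3 := (map_dvd φT h).trans (hN.trans (pow_dvd_pow_of_dvd (map_dvd (algebraMap B W) hπB.2) N))
      have e4 : ι' (u * ϖ ^ (e' + 1)) ^ N = ι' ϖ ^ ((e' + 1) * N) * ι' (u ^ N : V₁ˣ) := by
        rw [map_mul, mul_pow, map_pow, ← pow_mul, Units.val_pow_eq_pow_val, map_pow, mul_comm]
      rw [map_pow, hφp, pow_succ, ← IsScalarTower.algebraMap_apply, ← ι'.commutes, hπe, e4] at h3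
      exact h3
    rw [mul_dvd_mul_iff_left (pow_ne_zero _ hι'0)] at h2
    exact hι'ϖ (isUnit_of_dvd_unit h2 ((u ^ N).isUnit.map ι'))
  haveI : IsLocalHom φT := ⟨fun t ht => by
    obtain ⟨r, rfl⟩ := Ideal.Quotient.mk_surjective t
    exact (isUnit_of_map_unit φ r ht).map _⟩
  have hψgen : ∀ r : R, (ψ r : M) ∈ (W.subtype.comp φT).range := fun r =>
    ⟨Ideal.Quotient.mk _ (algebraMap R RQ r), congrArg Subtype.val (hφ r)⟩
  have hsurjT : Function.Surjective φT := by
    refine Groth.L05.UnramBaseChange.surjective_of_local W φT fun x => ?_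
    let S := (W.subtype.comp φT).range
    have hK₁ : ∀ z : K₁, f z ∈ Subfield.closure (S : Set M) := fun z => by
      rcases V₁.mem_or_inv_mem z with hz | hz
      · exact Subfield.subset_closure (by
          have := hψgen (1 ⊗ₜ ⟨z, hz⟩); rwa [hψV] at this)
      · have h1 : f z⁻¹ ∈ Subfield.closure (S : Set M) := Subfield.subset_closure (by
          have := hψgen (1 ⊗ₜ ⟨z⁻¹, hz⟩); rwa [hψV] at this)
        simpa using inv_mem h1
    have hB : ∀ b : B, algebraMap L M (algebraMap B L b) ∈ Subfield.closure (S : Set M) := fun b =>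
      Subfield.subset_closure (by
        have := hψgen (algebraMap B R b); rwa [ψ.commutes] at this)
    have hL : ∀ l : L, algebraMap L M l ∈ Subfield.closure (S : Set M) := fun l => by
      obtain ⟨a, b, -, rfl⟩ := IsFractionRing.div_surjective (A := B) l
      rw [map_div₀]
      exact div_mem (hB a) (hB b)
    have hmem : x ∈ Subfield.closure (S : Set M) := by
      have hx : x ∈ Algebra.adjoin L (Set.range f) := hgen ▸ Algebra.mem_top
      induction hx using Algebra.adjoin_induction with
      | mem y hy => obtain ⟨z, rfl⟩ := hy; exact hK₁ z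
      | algebraMap l => exact hL l
      | add y z _ _ hy hz => exact add_mem hy hz
      | mul y z _ _ hy hz => exact mul_mem hy hz
    obtain ⟨y, hy, z, hz, hyz⟩ := Subfield.mem_closure_iff.mp hmem
    rw [Subring.closure_eq] at hy hz
    obtain ⟨a, rfl⟩ := hy
    obtain ⟨b, rfl⟩ := hz
    by_cases hb : (φT b : M) = 0
    · refine ⟨0, 1, by simp, ?_⟩
      rw [← hyz]
      simp [hb]
    · exact ⟨a, b, hb, by rw [← hyz]; exact div_mul_cancel₀ _ hb⟩
  letI : Algebra V₁ W := (inclOfComap W f).toAlgebra
  refine ⟨?_, ?_⟩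
  · show (maximalIdeal V₁).map (inclOfComap W f) = maximalIdeal W
    rw [hϖ.maximalIdeal_eq, Ideal.map_span, Set.image_singleton,
      ← IsLocalRing.map_maximalIdeal_of_surjective φT hsurjT, hmaxT, Ideal.map_span, Set.image_singleton, hφp]
    rfl
  · letI : Algebra (ResidueField V₁) (ResidueField W) := (ResidueField.map (inclOfComap W f)).toAlgebra
    letI : Algebra (ResidueField A) (ResidueField W) :=
      ((algebraMap (ResidueField V₁) (ResidueField W)).comp (algebraMap (ResidueField A) (ResidueField V₁))).toAlgebra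
    haveI : IsScalarTower (ResidueField A) (ResidueField V₁) (ResidueField W) :=
      IsScalarTower.of_algebraMap_eq fun _ => rfl
    let H₂ : ResidueField B →ₐ[ResidueField A] ResidueField W :=
      { ResidueField.map (algebraMap B W) with
        commutes' := fun c => by
          obtain ⟨a, rfl⟩ := residue_surjective c
          show residue W (algebraMap B W (algebraMap A B a)) = residue W (ι' (algebraMap A V₁ a))
          rw [ι'.commutes, ← IsScalarTower.algebraMap_apply] }
    let g : ResidueField V₁ ⊗[ResidueField A] ResidueField B →ₐ[ResidueField V₁] ResidueField W :=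
      Algebra.TensorProduct.lift (Algebra.ofId _ _) H₂ fun _ _ => Commute.all _ _
    refine geomReduced_of_surjective (ResidueField A) (ResidueField V₁) (ResidueField B) (ResidueField W) g fun y => ?_
    have hrange : ∀ r : R, residue W (ψ r) ∈ g.range := fun r => by
      induction r using TensorProduct.induction_on with
      | zero => rw [map_zero, map_zero]; exact zero_mem _
      | add a b ha hb => rw [map_add, map_add]; exact add_mem ha hb
      | tmul b v =>
        refine ⟨residue V₁ v ⊗ₜ residue B b, ?_⟩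
        show g (residue V₁ v ⊗ₜ residue B b) = _
        rw [Algebra.TensorProduct.lift_tmul, Algebra.TensorProduct.lift_tmul, map_mul, mul_comm]
        rfl
    obtain ⟨y, rfl⟩ := residue_surjective y
    obtain ⟨t, rfl⟩ := hsurjT y
    obtain ⟨t, rfl⟩ := Ideal.Quotient.mk_surjective t
    obtain ⟨r, s, rfl⟩ := IsLocalization.exists_mk'_eq Q.primeCompl t
    obtain ⟨a, ha⟩ := hrange r
    obtain ⟨b, hb⟩ := hrange s
    have hb0 : g b ≠ 0 := fun h => s.2 (by
      show ψ (s : R) ∈ maximalIdeal W
      rw [← residue_eq_zero_iff, ← hb]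
      exact h)
    haveI : (RingHom.ker g).IsPrime := RingHom.ker_isPrime g
    obtain ⟨c, i, hi, hci⟩ := (IsArtinianRing.isMaximal_of_isPrime (RingHom.ker g)).exists_inv (show b ∉ RingHom.ker g from hb0)
    have h1 : g c * g b = 1 := by
      rw [← map_mul, eq_sub_of_add_eq hci, map_sub, (RingHom.mem_ker.mp hi : g i = 0), map_one, sub_zero]
    refine ⟨a * c, ?_⟩
    refine mul_right_cancel₀ hb0 ?_
    rw [map_mul, mul_assoc, h1, mul_one, show g a = residue W (ψ r) from ha, show g b = residue W (ψ s) from hb,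
      ← map_mul]
    refine congrArg (residue W) ?_
    show ψ r = φ (IsLocalization.mk' RQ r s) * ψ s
    rw [← hφ, ← hφ, ← map_mul, IsLocalization.mk'_spec]

end Groth.L05.SepResidueSol
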